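import Mathlib
import Cfsg.Agent.Lib.Helper10.Co1O.Defs

/-!
helper8: leaf CO1 (three cardinalities) of helper10's S2069 market (`notes/S2069_plan.md`).
-/

set_option autoImplicit false

namespace Cfsg.Agent.Lib.Helper8.Co1Leaf

open Cfsg
open Cfsg.Agent.Lib.Helper10.Co1O
open Cfsg.Agent.Lib.Helper14.LeechMono

theorem zmod2_cases : ∀ x c : ZMod 2, x = c ∨ x + 1 = c := by decide

theorem zmod2_add_one_ne : ∀ x : ZMod 2, x + 1 ≠ x := by decide

/-- the parametrisation `(σ, w) ↦ (mon σ w, w ∞)` of `Sb T × ZMod 2` -/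
theorem card_Sb (T : Subgroup ↥M24) : Nat.card ↥(Sb T) = 2 ^ 11 * Nat.card ↥T := by
  classical
  let Φ : ↥T × ↥golayCode → ↥(Sb T) × ZMod 2 := fun p =>
    (⟨mon p.1.1 p.2, ⟨p.1.1, p.1.2, p.2, rfl⟩⟩, p.2.1 none)
  have hinj : Function.Injective Φ := by
    rintro ⟨σ, w⟩ ⟨τ, u⟩ hΦ
    have h1 : mon σ.1 w = mon τ.1 u := congrArg (fun q => (q.1 : Cfsg.Spor.Co1)) hΦ
    have h2 : w.1 none = u.1 none := congrArg Prod.snd hΦ
    obtain ⟨h3, h4⟩ := (mon_eq_iff _ _ _ _).mp h1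
    have hw : w = u := by
      rcases h4 with h4 | h4
      · exact h4
      · exfalso
        rw [h4] at h2
        have h5 : (u + oneW).1 none = u.1 none + 1 := rfl
        rw [h5] at h2
        exact zmod2_add_one_ne _ h2
    rw [Prod.mk.injEq]
    exact ⟨Subtype.ext h3, hw⟩
  have hsurj : Function.Surjective Φ := by
    rintro ⟨⟨x, σ, hσ, w, rfl⟩, c⟩
    rcases zmod2_cases (w.1 none) c with hc | hc
    · exact ⟨(⟨σ, hσ⟩, w), by simp only [Φ, hc]⟩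
    · refine ⟨(⟨σ, hσ⟩, w + oneW), ?_⟩
      have h5 : (w + oneW).1 none = w.1 none + 1 := rfl
      simp only [Φ, h5, hc, mon_add_oneW]
  have hcard := Nat.card_congr (Equiv.ofBijective Φ ⟨hinj, hsurj⟩)
  rw [Nat.card_prod, Nat.card_prod, card_golayCode, Nat.card_zmod] at hcard
  omega

theorem Eb_eq_Sb_bot : Eb = Sb ⊥ := by
  ext x
  rw [mem_Eb_iff, mem_Sb_iff]
  constructor
  · rintro ⟨w, rfl⟩
    exact ⟨1, Subgroup.mem_bot.mpr rfl, w, rfl⟩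
  · rintro ⟨σ, hσ, w, rfl⟩
    rw [Subgroup.mem_bot.mp hσ]
    exact ⟨w, rfl⟩

theorem card_Eb : Nat.card ↥Eb = 2 ^ 11 := by
  rw [Eb_eq_Sb_bot, card_Sb, Subgroup.card_bot, mul_one]

theorem card_T24 : Nat.card ↥T24 = 2 ^ 10 := by
  unfold T24
  rw [Nat.card_congr (Subgroup.subgroupOfEquivOfLe
    (Cfsg.Agent.Lib.Helper3.FusM24.D.S_le)).toEquiv, Cfsg.Agent.Lib.Helper3.Fus.SylCert.card]
  rfl

end Cfsg.Agent.Lib.Helper8.Co1Leaf
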