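import Mathlib
import Cfsg.Agent.Lib.Helper10.Co1O.Defs

/-!
helper8: leaf CO3 (`mem_Nt_of_conj`, the eigenline lemma) of helper10's S2069 market
(`notes/S2069_plan.md`): an element of `Co0` conjugating the sign changes of a point-separating set of
code words to sign changes is monomial.
-/

set_option autoImplicit false

namespace Cfsg.Agent.Lib.Helper8.Co1Leaf

open Cfsg
open Cfsg.Agent.Lib.Helper10.Co1O
open Cfsg.Agent.Lib.Helper14.LeechMono
open Cfsg.Agent.Lib.Helper14.Co0Center

/-- coordinates of a sign change applied to a lattice vector -/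
theorem eps_apply (w : ↥golayCode) (v : ↥leechLattice) (i : GolayPt) :
    (((monoC 1 w : ↥Co0) : Equiv.Perm ↥leechLattice) v : GolayPt → ℤ) i =
      if w.1 i ≠ 0 then -(v : GolayPt → ℤ) i else (v : GolayPt → ℤ) i := by
  rw [monoC_apply]
  rfl

theorem zmod2_eq_one : ∀ x : ZMod 2, x ≠ 0 → x = 1 := by decide

/-- LEAF CO3 -/
theorem mem_Nt_of_conj (W : Set ↥golayCode)
    (hsep : ∀ i j : GolayPt, i ≠ j → ∃ w ∈ W, w.1 i ≠ w.1 j)
    (g : ↥Co0) (h : ∀ w ∈ W, ∃ u : ↥golayCode, g * monoC 1 w * g⁻¹ = monoC 1 u) : g ∈ Nt := by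
  rw [← Subgroup.inv_mem_iff]
  apply mem_Nt_of_std
  intro v hv
  obtain ⟨i, s, hs, hvs⟩ := hv
  obtain ⟨y, hy⟩ : ∃ y : ↥leechLattice, y = ((g⁻¹ : ↥Co0) : Equiv.Perm ↥leechLattice) v := ⟨_, rfl⟩
  have hyv : (g⁻¹ • v : ↥leechLattice) = y := by rw [hy]; rfl
  rw [hyv]
  have hnorm : sqNorm (y : GolayPt → ℤ) = 64 := by
    rw [hy, (g⁻¹).2.2 v, hvs, sqNorm_single]
    rcases hs with rfl | rfl <;> norm_num
  have hdich : ∀ w ∈ W, (∀ j, w.1 j ≠ 0 → (y : GolayPt → ℤ) j = 0) ∨
      (∀ j, w.1 j = 0 → (y : GolayPt → ℤ) j = 0) := by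
    intro w hw
    obtain ⟨u, hu⟩ := h w hw
    have e1 : monoC 1 w * g⁻¹ = g⁻¹ * monoC 1 u := by
      rw [← hu]
      group
    have e2 : ((monoC 1 w : ↥Co0) : Equiv.Perm ↥leechLattice) y =
        ((g⁻¹ : ↥Co0) : Equiv.Perm ↥leechLattice)
          (((monoC 1 u : ↥Co0) : Equiv.Perm ↥leechLattice) v) := by
      have e := congrArg (fun k : ↥Co0 => (k : Equiv.Perm ↥leechLattice) v) e1
      simp only [Subgroup.coe_mul, Equiv.Perm.mul_apply] at e
      rw [hy]
      exact e
    by_cases hui : u.1 i ≠ 0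
    · have e3 : ((monoC 1 u : ↥Co0) : Equiv.Perm ↥leechLattice) v = -v := by
        apply Subtype.ext
        funext j
        rw [eps_apply]
        show _ = -(v : GolayPt → ℤ) j
        by_cases hj : j = i
        · subst hj
          rw [if_pos hui]
        · have hv0 : (v : GolayPt → ℤ) j = 0 := by rw [hvs, Pi.single_eq_of_ne hj]
          rw [hv0]
          simp
      rw [e3, co0_map_neg _ (g⁻¹).2, ← hy] at e2
      right
      intro j hj
      have e4 := congrArg (fun z : ↥leechLattice => (z : GolayPt → ℤ) j) e2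
      rw [eps_apply, if_neg (not_not.mpr hj)] at e4
      have e5 : (y : GolayPt → ℤ) j = -(y : GolayPt → ℤ) j := e4
      omega
    · have e3 : ((monoC 1 u : ↥Co0) : Equiv.Perm ↥leechLattice) v = v := by
        apply Subtype.ext
        funext j
        rw [eps_apply]
        by_cases hj : j = i
        · subst hj
          rw [if_neg hui]
        · have hv0 : (v : GolayPt → ℤ) j = 0 := by rw [hvs, Pi.single_eq_of_ne hj]
          rw [hv0]
          simp
      rw [e3, ← hy] at e2
      left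
      intro j hj
      have e4 := congrArg (fun z : ↥leechLattice => (z : GolayPt → ℤ) j) e2
      rw [eps_apply, if_pos hj] at e4
      omega
  have huniq : ∀ a b, (y : GolayPt → ℤ) a ≠ 0 → (y : GolayPt → ℤ) b ≠ 0 → a = b := by
    intro a b ha hb
    by_contra hab
    obtain ⟨w, hw, hwab⟩ := hsep a b hab
    rcases hdich w hw with hd | hd
    · have h1 : w.1 a = 0 := by
        by_contra h'
        exact ha (hd a h')
      have h2 : w.1 b = 0 := by
        by_contra h'
        exact hb (hd b h')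
      exact hwab (h1.trans h2.symm)
    · have h1 : w.1 a ≠ 0 := fun h' => ha (hd a h')
      have h2 : w.1 b ≠ 0 := fun h' => hb (hd b h')
      exact hwab ((zmod2_eq_one _ h1).trans (zmod2_eq_one _ h2).symm)
  have hex : ∃ a, (y : GolayPt → ℤ) a ≠ 0 := by
    by_contra hcon
    push Not at hcon
    have h0 : sqNorm (y : GolayPt → ℤ) = 0 := by
      unfold sqNorm
      apply Finset.sum_eq_zero
      intro j _
      rw [hcon j]
      ring
    omega
  obtain ⟨a, ha⟩ := hex
  have hy_single : (y : GolayPt → ℤ) = Pi.single a ((y : GolayPt → ℤ) a) := by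
    funext j
    by_cases hj : j = a
    · subst hj
      rw [Pi.single_eq_same]
    · rw [Pi.single_eq_of_ne hj]
      by_contra hne
      exact hj (huniq j a hne ha)
  refine ⟨a, (y : GolayPt → ℤ) a, ?_, hy_single⟩
  have hn2 : ((y : GolayPt → ℤ) a) ^ 2 = 64 := by
    rw [← sqNorm_single a, ← hy_single]
    exact hnorm
  have hn3 : ((y : GolayPt → ℤ) a - 8) * ((y : GolayPt → ℤ) a + 8) = 0 := by
    linear_combination hn2
  rcases mul_eq_zero.mp hn3 with h1 | h1
  · left
    omega
  · right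
    omega

end Cfsg.Agent.Lib.Helper8.Co1Leaf
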